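import Groth.Prelude.Def_Formal2

/-! `lim¹` of towers with stabilising images. -/

set_option autoImplicit false
set_option linter.style.haveILetI false

universe u

namespace Groth.Agent.H24Lim

variable {G : ℕ → Type u} [∀ n, AddCommGroup (G n)] (t : ∀ n, G (n + 1) →+ G n)

/-- The image of level `n + L` in level `n`. -/
def img : ∀ (L n : ℕ), AddSubgroup (G n)
  | 0, _ => ⊤
  | L + 1, n => (img L (n + 1)).map (t n)

theorem img_succ_le (L n : ℕ) : img t (L + 1) n ≤ img t L n := by
  induction L generalizing n with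
  | zero => exact le_top
  | succ L ih => exact AddSubgroup.map_mono (ih (n + 1))

theorem img_antitone (n : ℕ) : Antitone fun L => img t L n :=
  antitone_nat_of_succ_le fun L => img_succ_le t L n

theorem exists_seq {L : ℕ} : ∀ {n : ℕ} {x : G n}, x ∈ img t L n →
    ∃ z : ∀ m, G m, z n = x ∧ ∀ m, n ≤ m → m < n + L → z m = t m (z (m + 1)) := by
  classical
  induction L with
  | zero => exact fun {n x} _ => ⟨Function.update 0 n x, Function.update_self .., fun m h1 h2 => by omega⟩
  | succ L ih =>
    intro n x hx
    obtain ⟨y, hy, rfl⟩ := AddSubgroup.mem_map.mp hx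
    obtain ⟨z, hz, hz'⟩ := ih hy
    refine ⟨Function.update z n (t n y), Function.update_self .., fun m h1 h2 => ?_⟩
    rcases Nat.eq_or_lt_of_le h1 with rfl | h
    · rw [Function.update_self, Function.update_of_ne (by omega), hz]
    · rw [Function.update_of_ne (by omega), Function.update_of_ne (by omega)]
      exact hz' m h (by omega)

theorem surjective_towerDiff (h : ∀ n, ∃ N, ∀ L, N ≤ L → img t L n = img t N n) :
    Function.Surjective (Formal2.towerDiff G t) := by
  classical
  intro y
  choose N hN using h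
  let H : ∀ n, AddSubgroup (G n) := fun n => img t (N n) n
  have hH : ∀ n L, N n ≤ L → img t L n = H n := hN
  have htH : ∀ n, (H (n + 1)).map (t n) = H n := fun n => by
    rw [← hH n (max (N n) (N (n + 1)) + 1) (by omega), ← hH (n + 1) (max (N n) (N (n + 1))) (le_max_right _ _)]
    rfl
  let S : ℕ → ∀ n, G n := fun L => Nat.rec (motive := fun _ => ∀ n, G n) (fun _ => 0)
    (fun _ s n => y n + t n (s (n + 1))) L
  have hS : ∀ L n, S (L + 1) n = y n + t n (S L (n + 1)) := fun L n => rfl
  have hd : ∀ L n, S (L + 1) n - S L n ∈ img t L n := fun L => by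
    induction L with
    | zero => exact fun n => trivial
    | succ L ih =>
      intro n
      rw [hS (L + 1), hS L, add_sub_add_left_eq_sub, ← map_sub]
      exact AddSubgroup.mem_map_of_mem _ (ih (n + 1))
  have hstab : ∀ n L, N n ≤ L → S L n - S (N n) n ∈ H n := fun n L hL => by
    induction hL with
    | refl => rw [sub_self]; exact zero_mem _
    | @step L hL ih =>
      have := add_mem (hH n L hL ▸ hd L n) ih
      rwa [sub_add_sub_cancel] at this
  let x : ∀ n, G n := fun n => S (N n) n
  have hr : ∀ n, y n - (x n - t n (x (n + 1))) ∈ H n := fun n => by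
    have h1 := hstab n (max (N n) (N (n + 1)) + 1) (by omega)
    have h2 : t n (S (max (N n) (N (n + 1))) (n + 1) - x (n + 1)) ∈ H n :=
      htH n ▸ AddSubgroup.mem_map_of_mem _ (hstab (n + 1) _ (le_max_right _ _))
    rw [hS] at h1
    convert sub_mem h1 h2 using 1
    rw [map_sub]; abel
  have hlift : ∀ n (a : H n), ∃ b : H (n + 1), t n b = a := fun n a => by
    obtain ⟨b, hb, h⟩ := AddSubgroup.mem_map.mp (show (a : G n) ∈ (H (n + 1)).map (t n) from (htH n).symm ▸ a.2)
    exact ⟨⟨b, hb⟩, h⟩
  choose b hb using hlift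
  let z : ∀ n, H n := fun n => Nat.rec (motive := fun n => H n) 0
    (fun n a => b n (a - ⟨_, hr n⟩)) n
  have hz : ∀ n, t n (z (n + 1)).1 = (z n).1 - (y n - (x n - t n (x (n + 1)))) := fun n => (hb n (z n - ⟨_, hr n⟩)).trans rfl
  refine ⟨fun n => x n + (z n).1, funext fun n => ?_⟩
  change x n + (z n).1 - t n (x (n + 1) + (z (n + 1)).1) = y n
  rw [map_add, hz]
  abel

end Groth.Agent.H24Lim
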